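import Cfsg.Agent.Lib.L33.Def
import Cfsg.Agent.Lib.Linear.Descent
import Cfsg.Agent.Lib.Linear.Simple

/-! For S3140 (stub of helper5, filled by helper14). `τ = ` inner-diagonal `·` field. If `τ ∈ PGL₂(q)`: it centralises the four-group
`V = ⟨a, b⟩`, which is self-centralising in `PGL₂(q)`, so `τ = conj v`, `δ v = v`, `v = 1`, `τ = 1`, but `L₂(q)` is not solvable.
Otherwise `τ` is `PGL₂(q)`-conjugate to a field automorphism of order 2, `q = q₀²`, `Fx τ ≥ L₂(q₀)` solvable, `q₀ = 3`. -/

set_option autoImplicit false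

namespace Cfsg.Lib.L33

open Subgroup Matrix Cfsg.Lib.Linear
open scoped MatrixGroups

section
variable {F : Type*} [Field F]

theorem l2_pm {x y : SL(2, F)} (h : (x : PSL(2, F)) = y) : y.1 = x.1 ∨ y.1 = -x.1 := by
  rw [QuotientGroup.eq] at h
  obtain ⟨r, hr, e⟩ := Matrix.SpecialLinearGroup.mem_center_iff.1 h
  have e2 : y.1 = r • x.1 := by
    have : y = x * (x⁻¹ * y) := by group
    rw [this, Matrix.SpecialLinearGroup.coe_mul, ← e, scalar_apply, ← smul_eq_mul_diagonal]
  rw [Fintype.card_fin, sq_eq_one_iff] at hr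
  rcases hr with rfl | rfl
  · exact .inl (by rw [e2, one_smul])
  · exact .inr (by rw [e2, neg_smul, one_smul])

theorem l2_scalar {h A B : Matrix (Fin 2) (Fin 2) F} (hA : h * A = A * h) (hB : h * B = B * h) (n : A * B ≠ B * A) :
    h ∈ Set.range (scalar (Fin 2)) := by
  have a1 := congrFun (congrFun hA 0) 0
  have a2 := congrFun (congrFun hA 0) 1
  have a3 := congrFun (congrFun hA 1) 0
  have b1 := congrFun (congrFun hB 0) 0
  have b2 := congrFun (congrFun hB 0) 1
  have b3 := congrFun (congrFun hB 1) 0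
  simp only [mul_apply, Fin.sum_univ_two] at a1 a2 a3 b1 b2 b3
  have key : ∀ u : F, u * (A 0 1 * B 1 0 - B 0 1 * A 1 0) = 0 → u * ((A 0 0 - A 1 1) * B 0 1 - (B 0 0 - B 1 1) * A 0 1) = 0 →
      u * ((A 0 0 - A 1 1) * B 1 0 - (B 0 0 - B 1 1) * A 1 0) = 0 → u = 0 := fun u e1 e2 e3 => by
    by_contra hu
    have e1 := (mul_eq_zero.1 e1).resolve_left hu
    have e2 := (mul_eq_zero.1 e2).resolve_left hu
    have e3 := (mul_eq_zero.1 e3).resolve_left hu
    apply n
    ext i j
    fin_cases i <;> fin_cases j <;> simp only [mul_apply, Fin.sum_univ_two, Fin.zero_eta, Fin.mk_one]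
    · linear_combination e1
    · linear_combination e2
    · linear_combination -e3
    · linear_combination -e1
  have h1 : h 0 0 - h 1 1 = 0 := key _ (by linear_combination (B 1 0) * a2 + (B 0 1) * a3 + (A 0 0 - A 1 1) * b1)
    (by linear_combination (A 0 0 - A 1 1) * b2 - (B 0 0 - B 1 1) * a2) (by linear_combination -(A 0 0 - A 1 1) * b3 + (B 0 0 - B 1 1) * a3)
  have h2 : h 0 1 = 0 := key _ (by linear_combination (A 0 1) * b1 - (B 0 1) * a1)
    (by linear_combination -(B 0 1) * a2 + (A 0 1) * b2)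
    (by linear_combination -(B 1 0) * a2 + (A 1 0) * b2 + (A 0 1 * B 1 0 - B 0 1 * A 1 0) * h1)
  have h3 : h 1 0 = 0 := key _ (by linear_combination -(B 1 0) * a1 + (A 1 0) * b1)
    (by linear_combination (B 0 1) * a3 - (A 0 1) * b3 + (A 1 0 * B 0 1 - A 0 1 * B 1 0) * h1)
    (by linear_combination (B 1 0) * a3 - (A 1 0) * b3)
  refine ⟨h 0 0, ?_⟩
  ext i j
  fin_cases i <;> fin_cases j <;> simp [h2, h3]
  linear_combination h1

theorem l2_conj_one {x : PSL(2, F)} (h : MulAut.conj x = 1) : x = 1 := by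
  obtain ⟨x, rfl⟩ := QuotientGroup.mk_surjective x
  rw [← innDiag_toGL, ← MonoidHom.mem_ker, ker_innDiag, SpecialLinearGroup.toGL_mem_center_iff] at h
  exact (QuotientGroup.eq_one_iff _).2 h

theorem l2_sq (h2 : (2 : F) ≠ 0) {x : SL(2, F)} (h1 : (x : PSL(2, F)) ≠ 1) (h : (x : PSL(2, F)) * x = 1) : x.1 * x.1 = -1 := by
  rw [← QuotientGroup.mk_mul, ← QuotientGroup.mk_one, eq_comm] at h
  rcases l2_pm h with e | e
  · exfalso
    apply h1
    rw [QuotientGroup.eq_one_iff, ← SpecialLinearGroup.toGL_mem_center_iff,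
      GeneralLinearGroup.mem_center_iff_val_mem_range_scalar]
    have d := x.2
    rw [det_fin_two] at d
    have e' : x.1 * x.1 = 1 := e
    have a1 := congrFun (congrFun e' 0) 0
    have a2 := congrFun (congrFun e' 0) 1
    have a3 := congrFun (congrFun e' 1) 0
    simp only [mul_apply, Fin.sum_univ_two, one_apply_eq, one_apply_ne (show (0 : Fin 2) ≠ 1 by decide),
      one_apply_ne (show (1 : Fin 2) ≠ 0 by decide)] at a1 a2 a3
    have t : x.1 0 0 + x.1 1 1 ≠ 0 := fun t => h2 (by linear_combination x.1 0 0 * t - a1 - d)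
    have b0 : x.1 0 1 = 0 := (mul_eq_zero.1 (show (x.1 0 0 + x.1 1 1) * x.1 0 1 = 0 by linear_combination a2)).resolve_left t
    have c0 : x.1 1 0 = 0 := (mul_eq_zero.1 (show (x.1 0 0 + x.1 1 1) * x.1 1 0 = 0 by linear_combination a3)).resolve_left t
    rw [b0] at a1 d
    refine ⟨x.1 0 0, ?_⟩
    change _ = x.1
    ext i j
    fin_cases i <;> fin_cases j <;> simp [b0, c0]
    linear_combination (x.1 1 1) * a1 - x.1 0 0 * d
  · exact e

/-- A four-group of `L₂(q)` is self-centralising in `PGL₂(q)`. -/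
theorem l2_four (h2 : (2 : F) ≠ 0) {a b : PSL(2, F)} (a1 : a ≠ 1) (a2 : a * a = 1) (b1 : b ≠ 1) (b2 : b * b = 1) (c1 : a * b ≠ 1)
    (c2 : a * b * (a * b) = 1) {g : GL (Fin 2) F} (ga : innDiag g a = a) (gb : innDiag g b = b) :
    ∃ v, (v = 1 ∨ v = a ∨ v = b ∨ v = a * b) ∧ MulAut.conj v * innDiag g = 1 := by
  obtain ⟨A, rfl⟩ := QuotientGroup.mk_surjective a
  obtain ⟨B, rfl⟩ := QuotientGroup.mk_surjective b
  have hA := l2_sq h2 a1 a2
  have hB := l2_sq h2 b1 b2
  rw [← QuotientGroup.mk_mul] at c1 c2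
  have hC := l2_sq h2 c1 c2
  change A.1 * B.1 * (A.1 * B.1) = -1 at hC
  have an : B.1 * A.1 = -(A.1 * B.1) := by
    calc B.1 * A.1 = (A.1 * A.1) * (B.1 * A.1) * (B.1 * B.1) := by rw [hA, hB]; simp
      _ = A.1 * (A.1 * B.1 * (A.1 * B.1)) * B.1 := by simp only [mul_assoc]
      _ = _ := by rw [hC]; simp
  have n : A.1 * B.1 ≠ B.1 * A.1 := fun e => by
    have : (2 : F) • (A.1 * B.1) = 0 := by rw [two_smul]; nth_rewrite 1 [e]; rw [an, neg_add_cancel]
    rw [(smul_eq_zero.1 this).resolve_left h2, mul_zero, eq_comm, neg_eq_zero] at hC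
    exact one_ne_zero hC
  have fin : ∀ v : SL(2, F), v.1 * g.1 * A.1 = A.1 * (v.1 * g.1) → v.1 * g.1 * B.1 = B.1 * (v.1 * g.1) →
      MulAut.conj (v : PSL(2, F)) * innDiag g = 1 := fun v e1 e2 => by
    rw [← innDiag_toGL, ← map_mul, ← MonoidHom.mem_ker, ker_innDiag, GeneralLinearGroup.mem_center_iff_val_mem_range_scalar]
    exact l2_scalar e1 e2 n
  have pm : ∀ C : SL(2, F), innDiag g (C : PSL(2, F)) = C → g.1 * C.1 = C.1 * g.1 ∨ g.1 * C.1 = -(C.1 * g.1) := fun C h => by
    rw [innDiag_mk] at h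
    have k : (conjSL g C).1 * g.1 = g.1 * C.1 := by rw [conjSL_coe, mul_assoc, Units.inv_mul, mul_one]
    rcases l2_pm h.symm with e | e
    · exact .inl (by rw [← k, e])
    · exact .inr (by rw [← k, e, neg_mul])
  rcases pm A ga with e1 | e1 <;> rcases pm B gb with e2 | e2
  · exact ⟨_, .inl rfl, fin 1 (by simpa using e1) (by simpa using e2)⟩
  · refine ⟨_, .inr (.inl rfl), fin A (by rw [mul_assoc, e1]) ?_⟩
    rw [mul_assoc, e2, ← mul_assoc B.1, an, mul_neg, neg_mul, mul_assoc]
  · refine ⟨_, .inr (.inr (.inl rfl)), fin B ?_ (by rw [mul_assoc, e2])⟩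
    rw [mul_assoc, e1, mul_neg, ← mul_assoc, an, neg_mul, neg_neg, mul_assoc]
  · refine ⟨_, .inr (.inr (.inr (QuotientGroup.mk_mul _ A B))), fin (A * B) ?_ ?_⟩
    · rw [Matrix.SpecialLinearGroup.coe_mul, mul_assoc, e1, mul_neg, mul_assoc, ← mul_assoc B.1, an]
      simp only [mul_neg, neg_mul, neg_neg, mul_assoc]
    · rw [Matrix.SpecialLinearGroup.coe_mul, mul_assoc, e2, ← mul_assoc B.1, ← mul_assoc B.1, an]
      simp only [mul_neg, neg_mul, mul_assoc]

theorem l2_nsol {K₀ X : Type*} [Field K₀] [Group X] (h4 : 4 ≤ Nat.card K₀) (f : SL(2, K₀) →* X) {H : Subgroup X}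
    (le : ∀ s, f s ∈ H) (s : Group.IsSolvable H) : ∀ x, f x = 1 := by
  haveI : Group.IsPerfect SL(2, K₀) := ⟨commutator_SL_eq_top (.inr (exists_ne_zero_sq_ne_one h4))⟩
  haveI := Group.IsPerfect.range f
  have hs : Group.IsSolvable f.range :=
    Group.isSolvable_of_isSolvable_injective (inclusion_injective (show f.range ≤ H by rintro _ ⟨s, rfl⟩; exact le s))
  intro x
  by_contra hx
  haveI : Nontrivial f.range := ⟨⟨⟨f x, x, rfl⟩, 1, fun e => hx (congrArg Subtype.val e)⟩⟩
  exact Group.IsPerfect.not_isSolvable _ hs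

theorem l2_main [Fintype F] (o : Odd (Fintype.card F)) (q3 : 3 < Fintype.card F)
    (τ δ : MulAut PSL(2, F)) (t2 : τ * τ = 1) (c : τ * δ = δ * τ) {a b : PSL(2, F)} (a1 : a ≠ 1) (a2 : a * a = 1)
    (ab : a ≠ b) (da : δ a = b) (db : δ b = a * b) (ta : τ a = a) (s : Group.IsSolvable (Fx τ)) : Fintype.card F = 9 := by
  have tv : ((SpecialLinearGroup.transvection (show (0 : Fin 2) ≠ 1 by decide) (1 : F) : SL(2, F)) : PSL(2, F)) ≠ 1 := fun e => by
    rw [QuotientGroup.eq_one_iff, SpecialLinearGroup.transvection_mem_center_iff] at e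
    exact one_ne_zero e
  obtain ⟨g, σ, rfl⟩ := aut_PSL_decomp_two τ
  have s2 : σ * σ = 1 := by
    rw [mul_assoc, ← mul_assoc (fieldAut σ), fieldAut_mul_innDiag, mul_assoc, ← map_mul, ← mul_assoc, ← map_mul] at t2
    exact (innDiag_mul_fieldAut_eq_one t2).2
  by_cases h1 : σ = 1
  · exfalso
    subst h1
    rw [map_one, mul_one] at c ta s
    have h2 : (2 : F) ≠ 0 := fun h => by
      obtain ⟨m, hm⟩ := o
      have := FiniteField.cast_card_eq_zero F
      rw [hm] at this
      push_cast at this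
      rw [h, zero_mul, zero_add] at this
      exact one_ne_zero this
    have b1 : b ≠ 1 := by rw [← da]; exact (map_ne_one_iff _ δ.injective).2 a1
    have b2 : b * b = 1 := by rw [← da, ← map_mul, a2, map_one]
    have c1 : a * b ≠ 1 := by rw [← db]; exact (map_ne_one_iff _ δ.injective).2 b1
    have c2 : a * b * (a * b) = 1 := by rw [← db, ← map_mul, b2, map_one]
    have tb : innDiag g b = b := by rw [← da, ← MulAut.mul_apply, c, MulAut.mul_apply, ta]
    obtain ⟨v, hv, e⟩ := l2_four h2 a1 a2 b1 b2 c1 c2 ta tb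
    rw [eq_inv_of_mul_eq_one_right e] at c s
    have dv : δ v = v := by
      rw [eq_comm, ← mul_inv_eq_one]
      apply l2_conj_one
      have : MulAut.conj (δ v) = δ * MulAut.conj v * δ⁻¹ := by ext x; simp
      rw [map_mul, map_inv, this, mul_inv_eq_one, eq_mul_inv_iff_mul_eq]
      exact (Commute.inv_left_iff.1 c).eq
    have ba : b * a = a * b := by
      calc b * a = (a * a) * (b * a) * (b * b) := by rw [a2, b2, one_mul, mul_one]
        _ = a * (a * b * (a * b)) * b := by simp only [mul_assoc]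
        _ = _ := by rw [c2, mul_one]
    rcases hv with rfl | rfl | rfl | rfl
    · exact tv (l2_nsol (by rw [Nat.card_eq_fintype_card]; omega) (QuotientGroup.mk' _) (fun x => by simp [mem_Fx]) s _)
    · exact ab (dv.symm.trans da)
    · exact a1 (by simpa [dv] using db)
    · rw [map_mul, da, db, ← mul_assoc, ba, mul_assoc, b2, mul_one] at dv
      exact b1 (by simpa using dv)
  · have o2 : orderOf σ = 2 := orderOf_eq_prime (by rw [sq, s2]) h1
    obtain ⟨k, hk⟩ := (isTwist_fieldAut (ι := Fin 2) σ).exists_conj (g := g) (by rw [o2, sq, t2])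
    have cd := card_fixField_pow σ
    rw [o2, Nat.card_eq_fintype_card (α := F)] at cd
    have : Nat.card (fixField σ) ≤ 3 := by
      by_contra h4
      have := l2_nsol (K₀ := fixField σ) (by omega)
        (((innDiag k).toMonoidHom.comp (QuotientGroup.mk' _)).comp (SpecialLinearGroup.map (fixField σ).subtype)) (fun x => by
          rw [mem_Fx, hk]
          simp only [MonoidHom.comp_apply, MulEquiv.coe_toMonoidHom, MulAut.mul_apply, MulAut.inv_apply_self,
            QuotientGroup.mk'_apply, fieldAut_mk]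
          congr 2
          ext i j
          exact (x.1 i j).2) s (SpecialLinearGroup.transvection (show (0 : Fin 2) ≠ 1 by decide) 1)
      apply tv
      rw [← (map_eq_one_iff _ (innDiag k).injective), ← this]
      change _ = innDiag k ((_ : SL(2, F)) : PSL(2, F))
      congr 2
      ext i j
      fin_cases i <;> fin_cases j <;> simp [SpecialLinearGroup.transvection_coe]
    rw [← cd] at o q3 ⊢
    generalize Nat.card (fixField σ) = m at *
    interval_cases m <;> first | rfl | omega | exact absurd o (by decide)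

end

theorem pinL2 {K F : Type*} [Group K] [Field F] [Fintype F] (o : Odd (Fintype.card F)) (q3 : 3 < Fintype.card F)
    (e : K ≃* PSL(2, F)) (τ δ : MulAut K) (t2 : τ * τ = 1) (c : τ * δ = δ * τ) {a b : K} (a1 : a ≠ 1) (a2 : a * a = 1)
    (ab : a ≠ b) (da : δ a = b) (db : δ b = a * b) (ta : τ a = a) (s : Group.IsSolvable (Fx τ)) : Fintype.card F = 9 := by
  refine l2_main o q3 (MulAut.congr e τ) (MulAut.congr e δ) (by rw [← map_mul, t2, map_one]) (by rw [← map_mul, c, map_mul])
    (a := e a) (b := e b) ((map_ne_one_iff _ e.injective).2 a1) (by rw [← map_mul, a2, map_one]) (e.injective.ne ab)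
    (by simp [da]) (by simp [db]) (by simp [ta]) ?_
  refine Group.isSolvable_of_isSolvable_injective (f := (e.symm.toMonoidHom.comp (Subgroup.subtype _)).codRestrict (Fx τ) fun x => ?_) ?_
  · have := x.2
    rw [mem_Fx] at this ⊢
    apply e.injective
    simpa using this
  · intro x y h
    exact Subtype.ext (e.symm.injective (congrArg Subtype.val h))

end Cfsg.Lib.L33
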