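import Cfsg.Agent.Lib.L33.Def
import Cfsg.Agent.Lib.SpA.Main
import Cfsg.Agent.Lib.Pres.Sp
import Cfsg.Agent.Lib.Symp.WrFour

/-! Curtis-Tits for `C₃(3)` (S3140; statement helper5, proof helper8). Elements of order 3 of `Sp₄(3)` act quadratically, so the
embedding of `GL₂(3) = C(z1)` is conjugate to the Levi embedding; `J` centralises `α z3`, so it is a long root `SL₂(3)`. -/

set_option autoImplicit false

namespace Cfsg.Lib.L33

open Subgroup Matrix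
open scoped MatrixGroups

namespace CT

open Cfsg.Lib.Symp Cfsg.Lib.Symp.W4 Cfsg.Lib.SpA Cfsg.Lib.Chev Cfsg.Lib.Root Cfsg.Lib.Pres RootSys Sum
open scoped commutatorElement

abbrev S4 := symplecticGroup (Fin 2) F3
abbrev xp (i : Fin 2) : F3 → S4 := xSp F3 ((rootC 2).simple i)
abbrev xm (i : Fin 2) : F3 → S4 := xSp F3 ((rootC 2).neg ((rootC 2).simple i))
local notation "𝔅" => bil (Fin 2) F3

theorem ch3 : (3 : Matrix (Fin 2 ⊕ Fin 2) (Fin 2 ⊕ Fin 2) F3) = 0 := by decide +kernel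

theorem z_of_neg {x : F3} (h : x = -x) : x = 0 := by revert x; decide

theorem bilN (a : S4) (x y : Fin 2 ⊕ Fin 2 → F3) :
    𝔅 ((a.1 - 1) *ᵥ x) ((a.1 - 1) *ᵥ y) + 𝔅 ((a.1 - 1) *ᵥ x) y + 𝔅 x ((a.1 - 1) *ᵥ y) = 0 := by
  simp only [sub_mulVec, one_mulVec, map_sub, LinearMap.sub_apply, bil_mulVec]; ring

theorem quad (a : S4) (h : a ^ 3 = 1) : (a.1 - 1) * (a.1 - 1) = 0 := by
  have s := bilN a
  have h3 : (a.1 - 1) * ((a.1 - 1) * (a.1 - 1)) = 0 := by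
    have : a.1 * (a.1 * a.1) = 1 := congrArg Subtype.val ((pow_three a).symm.trans h)
    rw [show (a.1 - 1) * ((a.1 - 1) * (a.1 - 1)) = a.1 * (a.1 * a.1) - 1 + 3 * (a.1 - a.1 * a.1) by noncomm_ring, this, ch3]; simp
  generalize a.1 - 1 = N at s h3
  have n3 : ∀ x, N *ᵥ (N *ᵥ (N *ᵥ x)) = 0 := fun x => by rw [mulVec_mulVec, mulVec_mulVec, mul_assoc, h3, zero_mulVec]
  have b21 : ∀ x y, 𝔅 (N *ᵥ (N *ᵥ x)) (N *ᵥ y) = 0 := fun x y => by simpa only [n3, map_zero, LinearMap.zero_apply, zero_add] using s (N *ᵥ (N *ᵥ x)) y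
  have b22 : ∀ x y, 𝔅 (N *ᵥ (N *ᵥ x)) (N *ᵥ (N *ᵥ y)) = 0 := fun x y => b21 x _
  have b11 : ∀ x y, 𝔅 (N *ᵥ x) (N *ᵥ y) = -𝔅 (N *ᵥ (N *ᵥ x)) y := fun x y => by linear_combination s (N *ᵥ x) y - b21 x y
  have b20 : ∀ x y, 𝔅 (N *ᵥ (N *ᵥ y)) x = -𝔅 (N *ᵥ (N *ᵥ x)) y := fun x y => by
    linear_combination b11 x y + b11 y x - bil_skew (N *ᵥ x) (N *ᵥ y)
  refine Matrix.ext_of_mulVec_single fun i => ?_
  rw [zero_mulVec, ← mulVec_mulVec]
  generalize (Pi.single i 1 : Fin 2 ⊕ Fin 2 → F3) = x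
  refine (bil_nondegenerate (Fin 2) F3).1 _ fun y => by_contra fun k => ?_
  have := LinearIndependent.fintype_card_le_finrank (R := F3) (b := ![x, y, N *ᵥ x, N *ᵥ y, N *ᵥ (N *ᵥ x)])
    (Fintype.linearIndependent_iff.2 fun g e => by
      have f := fun v => congrArg (𝔅 v) e
      simp only [Fin.sum_univ_five, cons_val, map_add, map_smul, smul_eq_mul, map_zero] at f
      have g1 : g 1 = 0 := by simpa [-mulVec_mulVec, z_of_neg (b20 x x), b21, b22, k] using f (N *ᵥ (N *ᵥ x))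
      have g0 : g 0 = 0 := by simpa [-mulVec_mulVec, z_of_neg (b20 y y), b21, b22, b20 x y, k] using f (N *ᵥ (N *ᵥ y))
      have g3 : g 3 = 0 := by simpa [-mulVec_mulVec, g0, g1, bil_self, b11 x y, bil_skew (N *ᵥ x) (N *ᵥ (N *ᵥ x)), b21, k] using f (N *ᵥ x)
      have g2 : g 2 = 0 := by simpa [-mulVec_mulVec, g0, g1, g3, b11 y x, b20 x y, bil_skew (N *ᵥ y) (N *ᵥ (N *ᵥ x)), b21, k] using f (N *ᵥ y)
      have g4 : g 4 = 0 := by simpa [-mulVec_mulVec, g0, g1, g2, g3, bil_skew y (N *ᵥ (N *ᵥ x)), k] using f y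
      intro i
      fin_cases i <;> assumption)
  simp at this

theorem ring_aux {R : Type*} [Ring R] {N M : R} (h3 : (3 : R) = 0) (n : N * N = 0) (m : M * M = 0)
    (br : (1 + N) * (1 - M) * (1 + N) = (1 - M) * (1 + N) * (1 - M))
    (w : (1 + N) * (1 - M) * (1 + N) * ((1 + N) * (1 - M) * (1 + N)) = -1) : N * M + M * N = 1 := by
  have n' : ∀ x, N * (N * x) = 0 := fun x => by rw [← mul_assoc, n, zero_mul]
  have m' : ∀ x, M * (M * x) = 0 := fun x => by rw [← mul_assoc, m, zero_mul]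
  have e : N - N * (M * N) = M * (N * M) - M := by
    rw [← sub_eq_zero] at br ⊢
    rw [← br, show (1 + N) * (1 - M) * (1 + N) - (1 - M) * (1 + N) * (1 - M) =
      N - N * (M * N) - (M * (N * M) - M) + N * N - M * M by noncomm_ring, n, m, add_zero, sub_zero]
  generalize hr : N - N * (M * N) = r at e
  have rN : r * N = 0 := by rw [← hr]; simp [sub_mul, mul_assoc, n]
  have rM : r * M = 0 := by rw [e]; simp [sub_mul, mul_assoc, m]
  generalize hE : 1 - N * M - M * N = E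
  have EN : E * N = r := by rw [← hE, ← hr]; simp [sub_mul, mul_assoc, n]
  have EM : E * M = -r := by rw [← hE, e]; simp [sub_mul, mul_assoc, m]
  have Ew : E * ((1 + N) * (1 - M) * (1 + N)) = E := by
    rw [← mul_assoc, ← mul_assoc]
    simp only [mul_add, add_mul, mul_sub, sub_mul, mul_one, EN, EM, rN, rM, neg_mul, add_zero, sub_zero, neg_zero]
    have : 3 * r = 0 := by rw [h3, zero_mul]
    rw [← sub_eq_zero, ← this]; noncomm_ring
  have : E = -E := by rw [← mul_neg_one, ← w, ← mul_assoc, Ew, Ew]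
  have : E = 0 := by
    rw [show E = 3 * E - (E - -E) by noncomm_ring, h3, ← this, sub_self, zero_mul, sub_zero]
  rw [← sub_eq_zero, ← neg_eq_zero, ← this, ← hE]; noncomm_ring

theorem norm {a b c : S4} (a3 : a ^ 3 = 1) (b3 : b ^ 3 = 1) (br : a * b⁻¹ * a = b⁻¹ * a * b⁻¹)
    (w2 : a * b⁻¹ * a * (a * b⁻¹ * a) = negOneSp _ _) (c2 : c * c = 1) (ca : c * a = a⁻¹ * c) (cb : c * b = b⁻¹ * c) :
    ∃ g : S4, g * xp 0 1 = a * g ∧ g * xm 0 1 = b * g ∧ g * ph (1, -1) = c * g := by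
  have iv : ∀ {a : S4}, (a.1 - 1) * (a.1 - 1) = 0 → (a⁻¹).1 = 1 - (a.1 - 1) := fun {a} h => by
    have : a.1 * (1 - (a.1 - 1)) = 1 := by
      rw [show a.1 * (1 - (a.1 - 1)) = 1 - (a.1 - 1) * (a.1 - 1) by noncomm_ring, h, sub_zero]
    calc (a⁻¹).1 = (a⁻¹).1 * (a.1 * (1 - (a.1 - 1))) := by rw [this, mul_one]
      _ = _ := by rw [← mul_assoc, ← Submonoid.coe_mul, inv_mul_cancel, Submonoid.coe_one, one_mul]
  have sk : ∀ {a : S4}, (a.1 - 1) * (a.1 - 1) = 0 → ∀ x y, 𝔅 ((a.1 - 1) *ᵥ x) ((a.1 - 1) *ᵥ y) = 0 ∧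
      𝔅 ((a.1 - 1) *ᵥ x) y = -𝔅 x ((a.1 - 1) *ᵥ y) := fun {a} h x y => by
    have := bilN a ((a.1 - 1) *ᵥ x) y
    rw [mulVec_mulVec, h, zero_mulVec, map_zero, LinearMap.zero_apply, LinearMap.zero_apply, zero_add, zero_add] at this
    exact ⟨this, by linear_combination bilN a x y - this⟩
  have n := quad a a3
  have m := quad b b3
  have ia := iv n
  have ib := iv m
  have sN := sk n
  have sM := sk m
  have ea : a.1 = 1 + (a.1 - 1) := (add_sub_cancel _ _).symm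
  have eb : b.1 = 1 + (b.1 - 1) := (add_sub_cancel _ _).symm
  generalize a.1 - 1 = N at n ia sN ea
  generalize b.1 - 1 = M at m ib sM eb
  have E : N * M + M * N = 1 := ring_aux ch3 n m (by rw [← ea, ← ib]; exact congrArg Subtype.val br)
    (by rw [← ea, ← ib]; exact congrArg Subtype.val w2)
  have cN : ∀ x, N *ᵥ (c.1 *ᵥ x) = -(c.1 *ᵥ (N *ᵥ x)) := fun x => by
    have := congrArg (fun g : S4 => g.1 *ᵥ x) ca
    simp only [mul_mulVec, ia, ea, add_mulVec, sub_mulVec, one_mulVec, mulVec_add] at this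
    linear_combination (exp := 1) this
  have cM : ∀ x, M *ᵥ (c.1 *ᵥ x) = -(c.1 *ᵥ (M *ᵥ x)) := fun x => by
    have := congrArg (fun g : S4 => g.1 *ᵥ x) cb
    simp only [mul_mulVec, ib, eb, add_mulVec, sub_mulVec, one_mulVec, mulVec_add] at this
    linear_combination (exp := 1) this
  have cc : ∀ x, c.1 *ᵥ (c.1 *ᵥ x) = x := fun x => by rw [← mul_mulVec, c2, Submonoid.coe_one, one_mulVec]
  have n2 : ∀ x, N *ᵥ (N *ᵥ x) = 0 := fun x => by rw [mulVec_mulVec, n, zero_mulVec]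
  have m2 : ∀ x, M *ᵥ (M *ᵥ x) = 0 := fun x => by rw [mulVec_mulVec, m, zero_mulVec]
  have E' : ∀ x, N *ᵥ (M *ᵥ x) + M *ᵥ (N *ᵥ x) = x := fun x => by rw [mulVec_mulVec, mulVec_mulVec, ← add_mulVec, E, one_mulVec]
  have kN : ∀ {x}, N *ᵥ x = 0 → N *ᵥ (M *ᵥ x) = x := fun {x} h => by simpa [h] using E' x
  have sy : ∀ x y, 𝔅 x (M *ᵥ y) = 𝔅 y (M *ᵥ x) := fun x y => by rw [bil_skew y, (sM x y).2, _root_.neg_neg]
  have bc : ∀ x y, 𝔅 (c.1 *ᵥ x) (M *ᵥ (c.1 *ᵥ y)) = -𝔅 x (M *ᵥ y) := fun x y => by rw [cM, map_neg, bil_mulVec]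
  obtain ⟨p, q, p1, q1, p2, q2, β⟩ : ∃ p q, N *ᵥ p = 0 ∧ N *ᵥ q = 0 ∧ c.1 *ᵥ p = p ∧ c.1 *ᵥ q = -q ∧ 𝔅 p (M *ᵥ q) = -1 := by
    obtain ⟨x, y, h⟩ : ∃ x y, 𝔅 (N *ᵥ x) (M *ᵥ (N *ᵥ y)) ≠ 0 := by
      by_contra! h
      have : ∀ x, N *ᵥ x = 0 := fun x => (bil_nondegenerate (Fin 2) F3).1 _ fun y => by rw [← E' y, map_add, h, (sN _ _).1, add_zero]
      exact bv_ne_zero (F := F3) (inl (0 : Fin 2)) (by rw [← E' (bv F3 _), this, this, mulVec_zero, add_zero])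
    have k : ∀ x, N *ᵥ (N *ᵥ x + c.1 *ᵥ (N *ᵥ x)) = 0 ∧ N *ᵥ (N *ᵥ x - c.1 *ᵥ (N *ᵥ x)) = 0 ∧
        c.1 *ᵥ (N *ᵥ x + c.1 *ᵥ (N *ᵥ x)) = N *ᵥ x + c.1 *ᵥ (N *ᵥ x) ∧
        c.1 *ᵥ (N *ᵥ x - c.1 *ᵥ (N *ᵥ x)) = -(N *ᵥ x - c.1 *ᵥ (N *ᵥ x)) := fun x => by
      simp [-mulVec_mulVec, mulVec_add, mulVec_sub, cN, n2, cc, add_comm]
    have fin : ∀ p q, N *ᵥ p = 0 → N *ᵥ q = 0 → c.1 *ᵥ p = p → c.1 *ᵥ q = -q → 𝔅 p (M *ᵥ q) ≠ 0 →
        ∃ p q, N *ᵥ p = 0 ∧ N *ᵥ q = 0 ∧ c.1 *ᵥ p = p ∧ c.1 *ᵥ q = -q ∧ 𝔅 p (M *ᵥ q) = -1 := fun p q h1 h2 h3 h4 h5 => by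
      have t : ∀ x : F3, x ≠ 0 → x = -1 ∨ -x = -1 := by decide
      obtain e | e := t _ h5
      exacts [⟨p, q, h1, h2, h3, h4, e⟩, ⟨p, -q, h1, by rw [mulVec_neg, h2, neg_zero], h3, by rw [mulVec_neg, h4],
        by rw [mulVec_neg, map_neg, e]⟩]
    by_cases e : 𝔅 (N *ᵥ x + c.1 *ᵥ (N *ᵥ x)) (M *ᵥ (N *ᵥ y - c.1 *ᵥ (N *ᵥ y))) = 0
    · refine fin _ _ (k y).1 (k x).2.1 (k y).2.2.1 (k x).2.2.2 fun e' => h ?_
      have e1 := bc (N *ᵥ x + c.1 *ᵥ (N *ᵥ x)) (N *ᵥ y + c.1 *ᵥ (N *ᵥ y))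
      rw [(k x).2.2.1, (k y).2.2.1] at e1
      replace e1 := z_of_neg e1
      rw [sy] at e'
      simp only [mulVec_add, mulVec_sub, map_add, map_sub, LinearMap.add_apply, LinearMap.sub_apply, bc] at e e' e1
      linear_combination e + e' - (by decide : (3 : F3) = 0) * 𝔅 (N *ᵥ x) (M *ᵥ (N *ᵥ y))
    · exact fin _ _ (k x).1 (k y).2.1 (k x).2.2.1 (k y).2.2.2 e
  let col : Fin 2 ⊕ Fin 2 → Fin 2 ⊕ Fin 2 → F3 := Sum.elim ![p, -(M *ᵥ p)] ![M *ᵥ q, q]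
  have pp : 𝔅 p (M *ᵥ p) = 0 := z_of_neg (by simpa only [p2] using bc p p)
  have qq : 𝔅 q (M *ᵥ q) = 0 := z_of_neg (by simpa only [q2, mulVec_neg, map_neg, LinearMap.neg_apply, _root_.neg_neg] using bc q q)
  have pq : 𝔅 p q = 0 := by rw [← kN p1, ← kN q1, (sN _ _).1]
  have mem : (of col)ᵀ ∈ symplecticGroup (Fin 2) F3 := SymplecticGroup.mem_iff'.2 (by
    ext i j
    have : ((of col)ᵀᵀ * J (Fin 2) F3 * (of col)ᵀ) i j = 𝔅 (col i) (col j) := by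
      rw [bil_apply, mul_assoc, mul_apply]; rfl
    rw [this]
    rcases i with i | i <;> rcases j with j | j <;> fin_cases i <;> fin_cases j <;>
      simp [-mulVec_mulVec, col, J, bil_self, pp, qq, pq, β, bil_skew q p, sy q p, (sM _ _).2, m2, mulVec_neg])
  have gv : ∀ x, (of col)ᵀ *ᵥ bv F3 x = col x := fun x => by
    ext i; simp [bv, mulVec_single_one]
  have t : ∀ x, (xp 0 1).1 *ᵥ bv F3 x = bv F3 x + Sum.elim ![0, -bv F3 (inl 0)] ![bv F3 (inr 1), 0] x ∧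
      (xm 0 1).1 *ᵥ bv F3 x = bv F3 x + Sum.elim ![-bv F3 (inl 1), 0] ![0, bv F3 (inr 0)] x ∧
      (ph ((1 : SL(2, F3)), -1)).1 *ᵥ bv F3 x = Sum.elim ![bv F3 x, -bv F3 x] ![bv F3 x, -bv F3 x] x := by decide +kernel
  have cM' : ∀ x, c.1 *ᵥ (M *ᵥ x) = -(M *ᵥ (c.1 *ᵥ x)) := fun x => by rw [cM, _root_.neg_neg]
  refine ⟨⟨_, mem⟩, sp_ext' fun x => ?_, sp_ext' fun x => ?_, sp_ext' fun x => ?_⟩ <;> rw [mul_mulVec, mul_mulVec]
  on_goal 1 => rw [(t x).1, ea]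
  on_goal 2 => rw [(t x).2.1, eb]
  on_goal 3 => rw [(t x).2.2]
  all_goals
    rcases x with x | x <;> fin_cases x <;>
      simp [-mulVec_mulVec, mulVec_add, add_mulVec, mulVec_neg, gv, col, p1, q1, p2, q2, kN p1, kN q1, m2, cM', add_comm]

abbrev S2 := SL(2, F3)

/-- the quaternion subgroup -/
def Q8 : Subgroup S2 where
  carrier := {q | q * q = 1 ∨ q * q = -1}
  one_mem' := .inl (one_mul 1)
  mul_mem' := (show ∀ a b : S2, (a * a = 1 ∨ a * a = -1) → (b * b = 1 ∨ b * b = -1) → a * b * (a * b) = 1 ∨ a * b * (a * b) = -1 by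
    decide +kernel) _ _
  inv_mem' := (show ∀ a : S2, (a * a = 1 ∨ a * a = -1) → a⁻¹ * a⁻¹ = 1 ∨ a⁻¹ * a⁻¹ = -1 by decide +kernel) _

theorem sl2 (J : Subgroup (S2 × S2)) [n : J.Normal] (c : Nat.card J = 24) (z : ((1 : S2), (-1 : S2)) ∈ J) :
    ((1 : S2), xU (1 : F3)) ∈ J ∧ ((1 : S2), xL (1 : F3)) ∈ J := by
  obtain ⟨⟨⟨A, D⟩, m⟩, o⟩ := exists_prime_orderOf_dvd_card' (G := J) 3 (c ▸ by decide)
  rw [← orderOf_coe] at o
  have o3 : (A, D) ^ 3 = 1 := orderOf_dvd_iff_pow_eq_one.1 o.dvd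
  by_cases e : A = 1
  · subst e
    have t : ∀ D : S2, D ^ 3 = 1 → D ≠ 1 → ∀ y ∈ [xU (1 : F3), xL 1], ∃ g, g * D * g⁻¹ = y ∨ g * D⁻¹ * g⁻¹ = y := by decide +kernel
    have k : ∀ y ∈ [xU (1 : F3), xL 1], ((1 : S2), y) ∈ J := fun y h => by
      obtain ⟨g, rfl | rfl⟩ := t D (congrArg Prod.snd o3) (by rintro rfl; exact absurd (orderOf_one.symm.trans o) (by decide)) y h
      exacts [by simpa using n.conj_mem _ m (1, g), by simpa using n.conj_mem _ (inv_mem m) (1, g)]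
    exact ⟨k _ (by simp), k _ (by simp)⟩
  have t : ∀ A : S2, A ^ 3 = 1 → A ≠ 1 → ∃ g, g * A * g⁻¹ * A⁻¹ * (g * A * g⁻¹ * A⁻¹) = -1 := by decide +kernel
  have t' : ∀ a : S2, a * a = -1 → ∀ b, (b * b = 1 ∨ b * b = -1) → b = 1 ∨ b = a * a ∨ ∃ g, g * a * g⁻¹ = b := by decide +kernel
  obtain ⟨g, h⟩ := t A (congrArg Prod.fst o3) e
  have i : (g * A * g⁻¹ * A⁻¹, (1 : S2)) ∈ J := by simpa using mul_mem (n.conj_mem _ m (g, 1)) (inv_mem m)
  have l : Q8.prod (zpowers (-1 : S2)) ≤ J := by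
    rw [prod_le_iff, MonoidHom.map_zpowers, zpowers_le]
    refine ⟨?_, z⟩
    rintro _ ⟨b, f, rfl⟩
    obtain rfl | rfl | ⟨k, rfl⟩ := t' _ h b f
    exacts [map_one (MonoidHom.inl S2 S2) ▸ one_mem _, by simpa using mul_mem i i, by simpa using n.conj_mem _ i (k, 1)]
  have := card_dvd_of_le l
  rw [c, Nat.card_congr (prodEquiv _ _).toEquiv, Nat.card_prod, Nat.card_zpowers,
    orderOf_eq_prime (p := 2) (by decide +kernel) (by decide +kernel), show Nat.card Q8 = 8 from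
      (Nat.card_eq_fintype_card (α := {q : S2 // q * q = 1 ∨ q * q = -1})).trans (by decide +kernel)] at this
  exact absurd this (by decide)

theorem long (J : Subgroup S4) (c : Nat.card J = 24) (z : ph ((1 : S2), -1) ∈ J) (l : J ≤ centralizer {ph ((1 : S2), -1)})
    (n : centralizer {ph ((1 : S2), -1)} ≤ normalizer (J : Set S4)) : xp 1 1 ∈ J ∧ xm 1 1 ∈ J := by
  have : (J.comap ph).Normal := ⟨fun x m g => by
    rw [mem_comap, map_mul, map_mul, map_inv]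
    refine (mem_normalizer_iff.1 (n (mem_centralizer_singleton_iff.2 ?_)) _).1 m
    rw [← map_mul, ← map_mul]; congr 1; ext : 1 <;> simp⟩
  have i : Function.Injective (ph : S2 × S2 →* S4) := fun a b e => Prod.ext (ph_inj e).1 (ph_inj e).2
  have := sl2 (J.comap ph) (by
    rw [← card_map_of_injective i, map_comap_eq_self fun x m => ?_, c]
    obtain ⟨a, b, rfl⟩ := exists_ph (by decide) (mem_centralizer_singleton_iff.1 (l m))
    exact ⟨_, rfl⟩) z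
  rwa [mem_comap, mem_comap, show ph ((1 : S2), xU (1 : F3)) = xp 1 1 by decide +kernel,
    show ph ((1 : S2), xL (1 : F3)) = xm 1 1 by decide +kernel] at this

theorem ct3 {G : Type*} [Group G] (α : L3 →* G) (κ : S4 →* G) (h1 : ∀ t, κ (xp 0 t) = α (slP 1 t)) (h2 : ∀ t, κ (xm 0 t) = α (slM 1 t))
    (h3 : ∀ a ∈ [α ∘ slP 0, α ∘ slM 0], ∀ b ∈ [κ ∘ xp 1, κ ∘ xm 1], ∀ t u, Commute (a t) (b u)) :
    ∃ Φ : symplecticGroup (Fin 3) F3 →* G, α.range ≤ Φ.range ∧ κ.range ≤ Φ.range := by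
  let X := realSp F3 3
  have hA := (repC (idx 3)).anti
  let p : Fin 3 → F3 → G := ![α ∘ slP 0, α ∘ slP 1, κ ∘ xp 1]
  let m : Fin 3 → F3 → G := ![α ∘ slM 0, α ∘ slM 1, κ ∘ xm 1]
  have ct := ctRels_map (ctRels_SL (F := F3) 2) α
  have hs : ∀ k, Rk1 (p k) (m k) := fun k => by
    fin_cases k
    exacts [ct.rk1 0, ct.rk1 1, rk1_map ((realSp F3 2).hMul.rk1 _) κ]
  have orth := fun i j => (repC (idx 3)).tab.exists_loc_orth (fun k => (hs k).x_add) (fun k => (hs k).y_add) (i := i) (j := j)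
  have L01 : ∃ y, (repC (idx 3)).tab.Loc p m (pr 0 1) y := A2Pair.exists_loc hA (by decide) (by decide) (ct.bond 0 1 (by decide))
  have L02 := orth 0 2 (.inr ⟨by decide, h3⟩)
  have L12 : ∃ y, (repC (idx 3)).tab.Loc p m (pr 1 2) y := by
    obtain ⟨y, hy⟩ := Good.loc (π := emb F3 (Fin.succ_injective 2)) (K := ⊤)
      (fun x _ e => (injective_iff_map_eq_one _).1 (emb_injective _) x e) (realSp F3 3).sys
      X.strongComm (J := pr 1 2) (p := ![fun _ => 1, xp 0, xp 1]) (m := ![fun _ => 1, xm 0, xm 1])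
      (by rintro k (rfl | rfl) t <;> exact ⟨trivial, by revert t; decide +kernel⟩)
      (by rintro k (rfl | rfl) t <;> exact ⟨trivial, by revert t; decide +kernel⟩)
    refine ⟨fun r t => κ (y r t), fun r a t u => by rw [hy.add r a, map_mul], fun r s a b c d t u => by
      rw [← map_mul, hy.comm r s a b c d, map_mul, map_mul, ChevTab.map_commProd], fun k a => ?_, fun k a => ?_⟩
    · rw [hy.pos k a]
      rcases a with rfl | rfl
      exacts [funext h1, rfl]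
    · rw [hy.neg k a]
      rcases a with rfl | rfl
      exacts [funext h2, rfl]
  have L : ∀ i j, ∃ y, (repC (idx 3)).tab.Loc p m (pr i j) y := fun i j => by
    fin_cases i <;> fin_cases j
    exacts [orth _ _ (.inl rfl), L01, L02, pr_comm (0 : Fin 3) 1 ▸ L01, orth _ _ (.inl rfl), L12, pr_comm (0 : Fin 3) 2 ▸ L02,
      pr_comm (1 : Fin 3) 2 ▸ L12, orth _ _ (.inl rfl)]
  choose y hy using L
  obtain ⟨C', c1, c2, c3⟩ := X.faithful.exists_sys_of_loc X.strongComm X.hMul hs hy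
  obtain ⟨Φ, hΦ⟩ := X.faithful.exists_hom_of_sc X.grp_eq X.hMul (X.torus_injective (full_repC _)) c1 c2
  have e1 : ∀ k t, p k t ∈ Φ.range := fun k t =>
    ⟨_, by rw [hΦ, c3 k k _ (inJ_simple_iff.2 (.inl rfl)), (hy k k).pos k (.inl rfl)]⟩
  have e2 : ∀ k t, m k t ∈ Φ.range := fun k t =>
    ⟨_, by rw [hΦ, c3 k k _ (inJ_simple_iff.2 (.inl rfl)).neg, (hy k k).neg k (.inl rfl)]⟩
  refine ⟨Φ, ?_, ?_⟩ <;> rintro _ ⟨x, rfl⟩
  · exact (sl_eq_top (M := Φ.range.comap α) (Fin.forall_fin_two.2 ⟨e1 0, e1 1⟩) (Fin.forall_fin_two.2 ⟨e2 0, e2 1⟩)).ge (mem_top x)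
  · exact ((realSp F3 2).grp_eq.ge.trans ((realSp F3 2).sys.grp_le_of_simple (K := Φ.range.comap κ)
      (Fin.forall_fin_two.2 ⟨fun t => mem_comap.2 ((h1 t).symm ▸ e1 1 t), e1 2⟩)
      (Fin.forall_fin_two.2 ⟨fun t => mem_comap.2 ((h2 t).symm ▸ e2 1 t), e2 2⟩))) (mem_top x)

end CT

open CT Cfsg.Lib.Symp Cfsg.Lib.Symp.W4 Cfsg.Lib.Pres in
theorem ct {G : Type*} [Group G] (α : L3 →* G) (i : Function.Injective α) (K : Subgroup G)
    (e : K ≃* symplecticGroup (Fin 2) F3) (hK : (centralizer {z1}).map α ≤ K) (zc : α z1 ∈ centralizer (K : Set G))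
    (J : Subgroup G) (JK : J ≤ K) (c : Nat.card J = 24) (zJ : α z3 ∈ J) (Jn : K ⊓ centralizer {α z3} ≤ normalizer (J : Set G))
    (cm : ⁅centralizer {z3}, centralizer {z3}⁆.map α ≤ centralizer (J : Set G)) :
    ∃ Φ : symplecticGroup (Fin 3) F3 →* G, α.range ≤ Φ.range ∧ K ≤ Φ.range := by
  have c1 : ∀ {x : L3}, x * z1 = z1 * x → α x ∈ K := fun h => hK ⟨_, mem_centralizer_singleton_iff.2 h, rfl⟩
  let ψ : centralizer {z1} →* S4 := e.toMonoidHom.comp ((α.comp (centralizer {z1}).subtype).codRestrict K fun x => hK ⟨_, x.2, rfl⟩)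
  let u : centralizer {z1} := ⟨slP 1 1, mem_centralizer_singleton_iff.2 (by decide +kernel)⟩
  let v : centralizer {z1} := ⟨slM 1 1, mem_centralizer_singleton_iff.2 (by decide +kernel)⟩
  let z : centralizer {z1} := ⟨z3, mem_centralizer_singleton_iff.2 (by decide +kernel)⟩
  obtain ⟨g, g1, g2, g3⟩ := norm (a := ψ u) (b := ψ v) (c := ψ z) (by rw [← map_pow, show u ^ 3 = 1 by decide +kernel, map_one])
    (by rw [← map_pow, show v ^ 3 = 1 by decide +kernel, map_one])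
    (by simp only [← map_inv, ← map_mul]; exact congrArg ψ (by decide +kernel)) (by
      simp only [← map_inv, ← map_mul]
      rw [show u * v⁻¹ * u * (u * v⁻¹ * u) = ⟨z1, mem_centralizer_singleton_iff.2 rfl⟩ by decide +kernel]
      refine ((mem_center_sp_iff _).1 ((mem_center_mulEquiv_iff e _).2 (mem_center_iff.2 fun x => Subtype.ext (zc x x.2)))).resolve_left
        fun h => ?_
      exact absurd (i ((congrArg Subtype.val (e.map_eq_one_iff.1 h)).trans α.map_one.symm)) (by decide +kernel))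
    (by rw [← map_mul, show z * z = 1 by decide +kernel, map_one])
    (by simp only [← map_inv, ← map_mul]; exact congrArg ψ (by decide +kernel))
    (by simp only [← map_inv, ← map_mul]; exact congrArg ψ (by decide +kernel))
  let κ : S4 →* G := K.subtype.comp (e.symm.toMonoidHom.comp (MulAut.conj g).toMonoidHom)
  have k : ∀ {x y}, g * x = ψ y * g → κ x = α y := fun {x y} h => by
    change (e.symm (g * x * g⁻¹) : G) = _
    rw [h, mul_inv_cancel_right]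
    exact congrArg Subtype.val (e.symm_apply_apply _)
  have ki : Function.Injective κ := K.subtype_injective.comp (e.symm.injective.comp (MulAut.conj g).injective)
  have kr : κ.range = K := by
    rw [MonoidHom.range_comp, MonoidHom.range_eq_top.2 (e.symm.surjective.comp (MulAut.conj g).surjective), ← MonoidHom.range_eq_map,
      range_subtype]
  have d : ∀ x : L3, (∃ a b : L3, a * z3 = z3 * a ∧ b * z3 = z3 * b ∧ x = a * b * a⁻¹ * b⁻¹) →
      x ∈ ⁅centralizer {z3}, centralizer {z3}⁆ := by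
    rintro _ ⟨a, b, h, h', rfl⟩
    exact commutator_mem_commutator (mem_centralizer_singleton_iff.2 h) (mem_centralizer_singleton_iff.2 h')
  have dP := d (slP 0 1) ⟨slP 0 2, z1, by decide +kernel⟩
  have dM := d (slM 0 1) ⟨slM 0 2, z1, by decide +kernel⟩
  have dz : z3 ∈ ⁅centralizer {z3}, centralizer {z3}⁆ := (show (slP 0 1 * (slM 0 1)⁻¹ * slP 0 1) ^ 2 = z3 by decide +kernel) ▸
    pow_mem (mul_mem (mul_mem dP (inv_mem dM)) dP) 2
  obtain ⟨j1, j2⟩ := long (J.comap κ) (by rw [← card_map_of_injective ki, map_comap_eq_self (kr ▸ JK), c])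
    (mem_comap.2 (k g3 ▸ zJ)) (fun x m => mem_centralizer_singleton_iff.2 (ki (by
      rw [map_mul, map_mul, k g3]; exact cm ⟨_, dz, rfl⟩ _ m))) fun x m => mem_normalizer_iff.2 fun y => by
    rw [mem_comap, mem_comap, map_mul, map_mul, map_inv]
    exact mem_normalizer_iff.1 (Jn ⟨kr.le ⟨x, rfl⟩, mem_centralizer_singleton_iff.2 (by
      rw [← show κ _ = α z3 from k g3, ← map_mul, ← map_mul, mem_centralizer_singleton_iff.1 m])⟩) _
  have t : ∀ t : F3, xp 0 t = xp 0 1 ^ t.val ∧ xm 0 t = xm 0 1 ^ t.val ∧ xp 1 t = xp 1 1 ^ t.val ∧ xm 1 t = xm 1 1 ^ t.val ∧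
    ∀ i : Fin 2, slP i t = slP i (1 : F3) ^ t.val ∧ slM i t = slM i (1 : F3) ^ t.val := by decide +kernel
  refine kr ▸ ct3 α κ (fun s => by rw [(t s).1, ((t s).2.2.2.2 1).1, map_pow, map_pow, k g1])
    (fun s => by rw [(t s).2.1, ((t s).2.2.2.2 1).2, map_pow, map_pow, k g2]) ?_
  have f : ∀ {x y} (s r : ℕ), x ∈ ⁅centralizer {z3}, centralizer {z3}⁆ → y ∈ J.comap κ → Commute (α (x ^ s)) (κ (y ^ r)) :=
    fun s r a b => (cm ⟨_, pow_mem a s, rfl⟩ _ (pow_mem b r)).symm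
  simp only [List.forall_mem_cons, List.not_mem_nil, false_imp_iff, implies_true, and_true, Function.comp]
  refine ⟨⟨fun s r => ?_, fun s r => ?_⟩, fun s r => ?_, fun s r => ?_⟩
  · rw [((t s).2.2.2.2 0).1, (t r).2.2.1]; exact f _ _ dP j1
  · rw [((t s).2.2.2.2 0).1, (t r).2.2.2.1]; exact f _ _ dP j2
  · rw [((t s).2.2.2.2 0).2, (t r).2.2.1]; exact f _ _ dM j1
  · rw [((t s).2.2.2.2 0).2, (t r).2.2.2.1]; exact f _ _ dM j2

end Cfsg.Lib.L33
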