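import Cfsg.Agent.Lib.L33.CycA
import Cfsg.Agent.Lib.Inv.StronglyEmbedded
import Cfsg.Agent.S1911

/-! For S3140 (helper5, helper3): the centraliser `K` of a non-normal standard `L ≅ L₃(3)` has cyclic Sylow 2-subgroups.

Facts on `Aut(L) = L.2` (Lib.H33.Pk1, Lib.Linear.AutType): one class of involutions `z` in `L`, `C_L(z) = GL₂(3)`; an outer
involution has `C_L = S₄`, all outer involutions are `L`-conjugate; `C_{Aut L}(SL₂(3))` is cyclic (order ≤ 4), `C_{Aut L}(A₄)` has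
order ≤ 2, a 3-element ≠ 1 has centraliser with 2-part ≤ 4; `L = ⟨C_L(z), C_L(r)⟩` for `r ∈ C_L(z)` a reflection.
`N = N(L) = N(K)`, `C(u) ≤ N^g` for each involution `u ∈ K^g`. Suppose `R ∈ Syl₂(K)` not cyclic. As in `J1S.ex_meet` (S1911)
there are `g ∉ N` and an involution `u ∈ K^g ∩ N`.
(*) For such `(g, u)` put `H = O²(C_L(u))` (`SL₂(3)` or `A₄`), `P = O₂(H)`, `R₀ ∈ Syl₂(C_K(u))`. `H ≤ L^g × K^g`, `R₀` acts
faithfully on `L^g` centralising the projection `H₁` of `H`. If `P ∩ K^g = 1` then `H₁ ≅ H`, so `R₀` is cyclic (order 2 if `H = A₄`).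
Case 1: no involution of `L` is conjugate into `K`. If `u = k x` (`k ∈ K`, `x ∈ L`) then `k ≠ 1`, `R₀ = C_R(k)` (choose `R`) is cyclic
and contains `Z(R)`, so `k ∈ Z(R)`, `R = R₀`: false. So all such `u` are outer, `R₀ = ⟨t⟩`, `R⟨u⟩` has maximal class with centre
`⟨t⟩`, `u ~ ut` in `R⟨u⟩` and the involutions of `Ru` are conjugate to `u`. `S = (R × D)⟨u⟩ ∈ Syl₂(N)`, `D` semidihedral,
`Z(S) = ⟨t, z⟩`; `t` is conjugate neither to `z` nor to `tz` (inner), so `S ∈ Syl₂(G)`, and `z ≁ tz` (Burnside in `N(S)`).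
By symmetry `u` is central in a Sylow subgroup of `N^g`, so `u^h = t` with `C_S(u)^h ≤ S`; `C_S(u) = ⟨t, u⟩ × D₈`, `D₈ ≤ C_L(u) = S₄`;
`t^h` is outer. For an involution `s ∈ D₈ ∖ O₂(S₄)`: `us ~ u ~ t` (outer involution). Every involution of `D₈^h ≤ S` is `~ z`, so lies
in `D` (involutions of `S ∖ RD` are `~ t`; those of `C_S(t^h) ∩ RD = ⟨t⟩ × D₈*` are `t`, `~ z` or `~ tz`). So `(us)^h = t s^h ~ tz`: false.
Case 2: an involution `z ∈ L ∩ K^g`. Then `K, C_L(z) ≤ N^g`, `R` acts faithfully on `L^g` centralising `H₁`, the projection of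
`H = SL₂(3)` to `K^g` is faithful so `|R| ≥ 8`, hence `H₁ = 1`, `H ≤ K^g`. For an involution `t' ∈ K` apply (*) to `(L^g, t')`:
`C_{K^g}(t') ≥ Q₈` is not cyclic, so there is an involution `z' ∈ L^g ∩ K`. For a reflection `r' ∈ C_{L^g}(z')`: `r' ∈ N` centralises `H`,
so `r'` or `r'z` lies in `K`, so `C_{L^g}(r') ≤ N`; thus `L^g ≤ N` centralises `H`, acts on `L` as a cyclic group, `[L, L^g] = 1`: false. -/

set_option autoImplicit false

namespace Cfsg.Lib.L33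

open Subgroup Matrix
open scoped MatrixGroups

theorem cyc {G : Type*} [Group G] [Finite G] {L X : Subgroup G} (hL : IsStandardSubgroup L) (hn : ¬ L.Normal) (e : L ≃* L3)
    [X.Normal] (sX : IsSimpleGroup X) (le : L ≤ X) {P : Subgroup G} (l : P ≤ centralizer (L : Set G)) (hP : IsPGroup 2 P) :
    IsCyclic P := by
  obtain ⟨S, rfl⟩ : ∃ S : St G, L = S.α.range := ⟨⟨L.subtype.comp e.symm.toMonoidHom, L.subtype_injective.comp e.symm.injective⟩, by
    rw [MonoidHom.range_comp, MonoidHom.range_eq_top.2 e.symm.surjective, ← MonoidHom.range_eq_map, range_subtype]⟩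
  have o2 : ∀ {x : G}, x * x = 1 → x ≠ 1 → orderOf x = 2 := fun h n => orderOf_eq_prime ((sq _).trans h) n
  have ev : ∀ {H : Subgroup G}, Even (Nat.card H) → ∃ u ∈ H, u * u = 1 ∧ u ≠ 1 := fun h => by
    obtain ⟨u, o⟩ := exists_prime_orderOf_dvd_card' 2 (even_iff_two_dvd.1 h)
    exact ⟨u, u.2, congrArg Subtype.val (show u * u = 1 by rw [← sq, ← o, pow_orderOf_eq_one]),
      fun e => by rw [show u = 1 from Subtype.ext e, orderOf_one] at o; omega⟩
  have NK : S.N = normalizer (S.K : Set G) := hL.2.2.2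
  have cK : ∀ g k, k ∈ S.K.map (MulAut.conj g).toMonoidHom ↔ k ∈ (S.cj g).K := fun g k => Transfer.mem_conj.trans S.cj_K.symm
  have ti : ∀ g, ∀ u ∈ S.K, u ∈ (S.cj g).K → u * u = 1 → u ≠ 1 → g ∈ S.N := fun g u p q r s => NK.ge (by_contra fun n =>
    (Nat.not_even_iff_odd.2 ((hL.2.1.2 g n).of_dvd_nat (Subgroup.orderOf_dvd_natCard _ (mem_inf.2 ⟨p, (cK g u).2 q⟩)))) (o2 r s ▸ even_two))
  by_contra nc
  have hf : Hf S := ⟨fun u p q r g c => ti g u p (S.cj_K.2 (by rwa [mul_assoc, ← c, inv_mul_cancel_left])) q r, P, l, hP, nc⟩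
  have pr : ∀ g ∉ S.N, Pr S (S.cj g) := fun g n => ⟨hf, ⟨fun u p q r h c => S.cj_N.2 (hf.cn _ (S.cj_K.1 p)
    (by simpa [mul_assoc] using congrArg (fun y => g⁻¹ * y * g) q) (fun e => r (conj_eq_one_iff.1 (by rwa [inv_inv] : g⁻¹ * u * g⁻¹⁻¹ = 1))) _ (by simpa using cm_cj g⁻¹ c)),
    P.map (MulAut.conj g).toMonoidHom, fun x m => (cK g x).1 (map_mono l m), hP.map _,
      fun c => nc ((P.equivMapOfInjective _ (MulAut.conj g).injective).isCyclic.2 c)⟩, fun u p q r => by_contra fun s => n (ti g u p q r s)⟩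
  have h : ∀ z, ∀ k ∈ S.K, z * z = 1 → IsConj (S.α z) k → z = 1 := fun z k p z2 c => by_contra fun z1 => by
    obtain ⟨g, rfl⟩ := isConj_iff.1 c
    have n : g⁻¹ ∉ S.N := fun m => z1 (S.LK (by simpa [mul_assoc] using S.cK m p))
    refine hL.2.2.1 g⁻¹ (fun e => n (Transfer.conj_eq_self_iff.1 e)) (commutator_eq_bot_iff_le_centralizer.2 (le_centralizer_iff.1 ?_))
    rintro _ ⟨_, ⟨x, rfl⟩, rfl⟩
    exact (pr _ n).c2 z2 z1 (S.cj_K.2 (by rwa [inv_inv])) x
  have hK : ¬ S.K.Normal := fun h => hn (normalizer_eq_top_iff.1 (NK.trans (normalizer_eq_top_iff.2 h)))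
  rcases Agent.S1911.result _ hL.2.1 (fun g m => Nat.not_even_iff_odd.1 fun o =>
    let ⟨u, p, u2, u1⟩ := ev o
    c1 pr h (fun z => m (NK.le z)) ((cK g u).1 p.1) (NK.ge p.2) u2 u1) with k | k
  · exact hK k
  rcases Normal.eq_bot_or_eq_top (inferInstance : ((normalClosure (S.K : Set G)).subgroupOf X).Normal) with p | p
  · refine hK ?_
    rw [show S.K = centralizer (X : Set G) from le_antisymm (fun x hx y hy => ?_) (centralizer_le le)]
    · infer_instance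
    · exact mul_inv_eq_iff_eq_mul.1 (mul_inv_eq_one.1 (congrArg Subtype.val (mem_bot.1 (p.le (show (⟨y * x * y⁻¹ * x⁻¹, by
        simpa [mul_assoc] using mul_mem hy (Normal.conj_mem inferInstance _ (inv_mem hy) x)⟩ : X) ∈ _ from
        mul_mem (Normal.conj_mem inferInstance _ (subset_normalClosure hx) y) (inv_mem (subset_normalClosure hx)))))))
  · obtain ⟨t, ht, t2, t1⟩ := ev hL.2.1.1
    obtain ⟨g, c⟩ := isConj_iff.1 (Inv.se_isConj k (s := ⟨S.α z3, subgroupOf_eq_top.1 p (le ⟨_, rfl⟩)⟩) (t := ⟨t, subset_normalClosure ht⟩)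
      ((orderOf_coe _).symm.trans (o2 (by rw [← map_mul, z3_sq, map_one]) fun e => z3_ne (S.a1.1 e))) ((orderOf_coe _).symm.trans (o2 t2 t1)))
    exact z3_ne (h z3 t ht z3_sq (isConj_iff.2 ⟨g, congrArg Subtype.val c⟩))

end Cfsg.Lib.L33
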