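import Cfsg.Prelude.Def_Local
import Cfsg.Prelude.Def_Classical
import Cfsg.Prelude.Def_CaseTheorems
import Cfsg.Prelude.Def_SporadicB

/-! Standard subgroups `L₃(3)` (S3140, lead helper5, plan in `docs/L33.md`): definitions. -/

set_option autoImplicit false

namespace Cfsg.Lib.L33

open Subgroup Matrix
open scoped MatrixGroups

abbrev F3 := ZMod 3
abbrev L3 := SL(3, F3)

/-- The fixed points of an automorphism. -/
def Fx {X : Type*} [Group X] (τ : MulAut X) : Subgroup X := τ.toMonoidHom.eqLocus (.id X)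

theorem mem_Fx {X : Type*} [Group X] {τ : MulAut X} {x : X} : x ∈ Fx τ ↔ τ x = x := Iff.rfl

def z1 : L3 := ⟨!![1, 0, 0; 0, 2, 0; 0, 0, 2], by rw [det_fin_three]; decide⟩
def z3 : L3 := ⟨!![2, 0, 0; 0, 2, 0; 0, 0, 1], by rw [det_fin_three]; decide⟩

/-- An involutory automorphism `τ` of `X` fixing a copy `α` of `L₃(3)`, with solvable involution centralisers in `C_X(τ)`. -/
structure Au (X : Type*) [Group X] where
  τ : MulAut X
  α : L3 →* X
  t2 : τ * τ = 1
  inj : Function.Injective α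
  fix : ∀ g, τ (α g) = α g
  sol : ∀ g, g ≠ 1 → g * g = 1 → Group.IsSolvable ↥(Fx τ ⊓ centralizer {α g})

/-- The reduced situation: `G = X⟨t⟩`, `X` simple, `L = α.range ≤ X` standard, `t ∈ C(L)`, `C(L)` with cyclic Sylow
2-subgroups. -/
structure Ctx (G : Type*) [Group G] where
  X : Subgroup G
  t : G
  α : L3 →* G
  nX : X.Normal
  sX : IsSimpleGroup X
  gen : X ⊔ zpowers t = ⊤
  cX : centralizer (X : Set G) = ⊥
  inj : Function.Injective α
  le : α.range ≤ X
  ne : α.range ≠ X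
  t2 : orderOf t = 2
  tL : t ∈ centralizer (α.range : Set G)
  tight : ∀ u ∈ centralizer (α.range : Set G), orderOf u = 2 → ∀ g : G, g * u * g⁻¹ ∈ centralizer (α.range : Set G) →
    g ∈ normalizer (α.range : Set G)
  cyc : ∀ P ≤ centralizer (α.range : Set G), IsPGroup 2 P → IsCyclic P

/-- The conclusion. -/
def Concl (X : Type*) [Group X] : Prop :=
  (∃ (K : Type) (_ : Field K) (_ : Fintype K), Fintype.card K = 9 ∧ Nonempty (X ≃* PSL(3, K))) ∨
    Nonempty (X ≃* PSL(4, F3)) ∨ Nonempty (X ≃* PSp 3 F3)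

end Cfsg.Lib.L33
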