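import Cfsg.Agent.Lib.L33.Eg
import Cfsg.Agent.S3225

/-! S3140 (plan by helper5, filled by helper22): the case `St10`, `γ = 0`. Framework: Lib/H33/{Pc,Fw,Sy,Cfg,Cf2,C4a,E8f-i}, Lib/L33/{Cx,Tl,V0,Vb}. Codes of `T₁ = gen X.gs` (`D10 β false ε`): `r = 1, t = 2, g = 4, d = 8, p = 16, q = 32, c = 64, j = 128, k = 256, z = 512`,
`f = 704`, `u = p q k = 304` (centralises `r, f, z`; `t ↦ t f`), `M₁` = codes without `t`-bit and with `g`-bit = `p`-bit (order 256). Model: `Hol(Z₈) ≀ Z₂`. Python: tools/h33/m1.py, y3.py, y4.py.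
`P = T₁ ∪ n T₁` (`nn`), `P₃ = P ⊓ C(k)`, `t ∉ X`; `p ∈ X` or `p t ∈ X` (`C.dec`).
`p t ∈ X`: S3225 in `X` for `S₀ = P ⊓ X`, `M = P₃ ⊓ X`, `n = 2` (involutions of `P ∖ P₃` are conjugate to `t`, `r t ∉ X`: `cls`), `x = 306`, `x² = f`: `x ~ x' ∈ M`; `x' = y` or `n y` with `y ∈ M₁`, and
`y²`, `y^n y` are in `⟨k, z⟩` if they are involutions (`decide`, `Mp.hom`): against `nfz`, `nfk` (`k ~ k z`).
`p ∈ X`: `S₀ = P₃ ≤ X`, `M = M₁ ∪ n M₁` of index 2, `thE` for `u` and `Q = C_{T₁}(u) ⊔ ⟨n⟩` (order 512, `|P₃| ≤ 1024`): `w = u^g ∈ M` centralises `H = Q^g` of index `≤ 2` in `P₃`, which contains all squares,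
so `q, c, q^t ∈ H` (`q = [g, r] k`, `c = a²`) and one of `g, g^t, g g^t`. `w = n y`: `(q k)^y = q`, `(c k)^y = c`, `y^n y = 1` is impossible. `w ∈ M₁`: `w ∈ ⟨k, z⟩` or `f⟨k, z⟩` (moves `g, g^t, g g^t`);
`k, k z, z` are squares of `q, q^t, c ∈ H`, so `u` is a square in `P₃`, but squares lie in `M ∌ u`. -/

set_option autoImplicit false
set_option synthInstance.maxSize 2048

namespace Cfsg.Lib.H33

open Cfsg.Lib.Calc Cfsg.Lib.Transfer Subgroup
open scoped Cfsg.Lib.Transfer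

variable {G : Type*} [Group G] [Finite G] {β ε : Bool}

set_option quotPrecheck false in
local notation "dk" => by clear_aux_decl; clear * -; decide +kernel +revert


namespace St10

variable {C : Cx G true}

set_option hygiene false in
local notation "𝔯" => el (St10.gs X)
set_option hygiene false in
local notation "𝔫" => Mp (St10.pg X) (St10.pg X)
set_option hygiene false in
local notation "𝔗" => gen (St10.gs X)

omit [Finite G] in
theorem eb_ex (X : St10 C.toCfg0 β false ε) {P : Subgroup G} (S : SP X.gs P) {n : G} (a : n ∈ P) (b : n ∉ 𝔗) (c : n * n = 1) {y : G}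
    (hy : y ∈ P) : ∃ x < 1024, y = 𝔯 x ∨ y = n * 𝔯 x := by
  by_cases h : y ∈ 𝔗
  · obtain ⟨x, l, e⟩ := X.pg.ex h
    exact ⟨x, l, .inl e⟩
  · obtain ⟨x, l, e⟩ := X.pg.ex (S.two n a y hy b h)
    exact ⟨x, l, .inr (by rw [← e, ← mul_assoc, c, one_mul])⟩

omit [Finite G] in
theorem eb_nt (X : St10 C.toCfg0 β false ε) {n y : G} (nk : 𝔫 n 256 256) {x : ℕ} (l : x < 1024) (e : y = 𝔯 x ∨ y = n * 𝔯 x) :
    𝔫 y 256 256 ↔ x / 2 % 2 = 0 := by
  have k : 𝔫 (𝔯 x) 256 256 ↔ x / 2 % 2 = 0 := ⟨fun m => by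
    have := m.of_el
    clear_aux_decl; clear * - l this; decide +kernel +revert,
    fun p => .sf _ _ _ _ (by clear_aux_decl; clear * - l p; decide +kernel +revert)⟩
  rcases e with rfl | rfl
  · exact k
  · rw [← k, Mp, Mp, ← cg_cg, nk.e]

theorem eb_tX (X : St10 C.toCfg0 β false ε) {x : ℕ} (l : x < 1024) (p : x / 2 % 2 = 1) (q : x / 4 % 2 = x / 16 % 2) : 𝔯 x ∉ C.X := fun h => by
  have := X.mX (x := mul (D10 β false ε) x 2 % 1024) (by clear_aux_decl; clear * - l p q; decide +kernel +revert)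
  rw [el_modN X.pg, ← X.pg.mul] at this
  exact X.tX ((mul_mem_cancel_left h).1 this)

theorem eb_f (X : St10 C.toCfg0 β false ε) {u : ℕ} (h : IsConj (𝔯 704) (𝔯 u)) (e : EQ 1024 u 256 ∨ EQ 1024 u 512 ∨ EQ 1024 u 768) : False := by
  rcases e with e | e | e <;> rw [(X.pg.eq _ _).2 e] at h
  exacts [X.nfk h.symm, X.nfz h.symm, X.nfk ((Mp.sf X.pg 2 256 768).conj.trans h.symm)]

theorem pt (X : St10 C.toCfg0 false false false) {P : Subgroup G} (S : SP X.gs P) {n : G} (a : n ∈ P) (b : n ∉ 𝔗) (c : n * n = 1) (d : n ∈ C.X)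
    {i j : Bool} (h : List.Forall₂ (𝔫 n) [1, 2, 4, 8, 16, 32, 64, 128, 256, 512]
      [1, 3, 36 + cond i 256 0 + cond j 512 0, cond i 40 552, 272, 288, 320, 384, 256, 512]) : 𝔯 306 ∉ C.X := fun hx => by
  haveI : Fact (Nat.Prime 2) := ⟨Nat.prime_two⟩
  haveI := C.nX
  have nk : 𝔫 n 256 256 := (Mp.hom h 256).cast _ _
  obtain ⟨S0, hS⟩ := exists_sylow_of_not_dvd_relIndex S.pP
    (not_dvd_relIndex_of_le_normalizer S.syl le_top le_normalizer_of_normal : ¬ 2 ∣ P.relIndex C.X)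
  have x2 : 𝔯 306 * 𝔯 306 = 𝔯 704 := by rw [X.pg.mul, X.pg.eq]; exact dk
  have x4 : orderOf (⟨𝔯 306, hx⟩ : C.X) = 2 ^ 2 := orderOf_eq_prime_pow
    (fun e => absurd ((X.pg.one 704).1 (by rw [← x2, ← sq]; exact congrArg Subtype.val e)) (by decide))
    (Subtype.ext (by
      rw [show 2 ^ (1 + 1) = 2 * 2 by norm_num, pow_mul, sq, sq]
      change 𝔯 306 * 𝔯 306 * (𝔯 306 * 𝔯 306) = 1
      rw [x2, X.pg.mul, X.pg.one]; exact dk))
  obtain ⟨g, hg, hk⟩ := Cfsg.Agent.S3225.result (G := C.X)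
    (even_iff_two_dvd.2 ((dvd_pow_self 2 two_ne_zero).trans (x4 ▸ orderOf_dvd_natCard _))) (fun _ => C.noidx) S0
    ((P ⊓ centralizer {𝔯 256}).subgroupOf C.X) (hS ▸ fun y hy => hy.1) (by
      rw [hS]
      refine relIndex_eq_two_iff.2 ⟨⟨_, hx⟩, S.le (el_mem _ _), fun y hy => ?_⟩
      rcases (X.zz (X.top.2 (S.nm hy))).2.2.2 with k | k
      · exact .inr ⟨⟨hy, mem_cent.2 k⟩, fun h => absurd ((k.tr 306).eq (mem_cent.1 h.2 : 𝔫 _ 256 256) rfl) dk⟩
      · exact .inl ⟨⟨mul_mem hy (S.le (el_mem _ _)), mem_cent.2 ((k.tr 306).r 256)⟩,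
          fun h => absurd (k.eq (mem_cent.1 h.2 : 𝔫 _ 256 256) rfl) dk⟩) 2 (by norm_num) (fun y hy hm => by
      rw [hS] at hy
      by_contra! o
      have y2 : y ^ 2 = 1 := orderOf_dvd_iff_pow_eq_one.1 (by
        have := orderOf_pos y
        obtain e | e : orderOf y = 1 ∨ orderOf y = 2 := by norm_num at o; omega
        all_goals simp [e])
      obtain ⟨v, -, e | e⟩ := X.cls S hy (by rw [← sq]; exact congrArg Subtype.val y2) fun k => hm ⟨hy, mem_cent.2 k⟩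
      exacts [X.eb_tX (x := 2) (by decide) rfl rfl (e ▸ C.cgX y.2 _), X.eb_tX (x := 3) (by decide) rfl rfl (e ▸ C.cgX y.2 _)])
    ⟨_, hx⟩ (hS ▸ S.le (el_mem _ _)) x4
  have w : ((g * ⟨𝔯 306, hx⟩ * g⁻¹ : C.X) : G) = cg (𝔯 306) (g : G)⁻¹ := by simp [cg]
  change ((g * ⟨𝔯 306, hx⟩ * g⁻¹ : C.X) : G) ∈ P at hg
  change ((g * ⟨𝔯 306, hx⟩ * g⁻¹ : C.X) : G) ∈ centralizer {𝔯 256} at hk
  rw [w] at hg hk
  have wX := C.cgX hx (g : G)⁻¹
  have w2 : cg (𝔯 704) (g : G)⁻¹ = cg (𝔯 306) (g : G)⁻¹ * cg (𝔯 306) (g : G)⁻¹ := by rw [← cg_mul, x2]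
  obtain ⟨y, l, e⟩ := X.eb_ex S a b c hg
  have p := (X.eb_nt nk l e).1 (mem_cent.1 hk)
  have yX : 𝔯 y ∈ C.X := by
    rcases e with e | e <;> rw [e] at wX
    exacts [wX, (mul_mem_cancel_left d).1 wX]
  have q : y / 4 % 2 = y / 16 % 2 := by
    by_contra q
    have := mul_mem yX hx
    rw [X.pg.mul, ← el_modN X.pg] at this
    have k : mul (D10 false false false) y 306 % 1024 / 2 % 2 = 1 ∧
      mul (D10 false false false) y 306 % 1024 / 4 % 2 = mul (D10 false false false) y 306 % 1024 / 16 % 2 :=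
      (by clear_aux_decl; clear * - l p q; decide +kernel +revert)
    exact X.eb_tX (Nat.mod_lt _ (by decide)) k.1 k.2 this
  rcases e with e | e <;> rw [e] at w2
  · have m : 𝔫 (g : G)⁻¹ 704 (mul (D10 false false false) y y) := by rw [Mp, w2, X.pg.mul]
    have p1 := m.sq
    have p2 := m.ne .zero
    exact X.eb_f m.conj (by clear_aux_decl; clear * - l p q p1 p2; decide +kernel +revert)
  · have m := Mp.hom h y
    replace m := m.l y (by clear_aux_decl; clear * - l; decide +kernel +revert)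
    have m : 𝔫 (g : G)⁻¹ 704 (mul (D10 false false false) (hm (mul (D10 false false false))
        [1, 3, 36 + cond i 256 0 + cond j 512 0, cond i 40 552, 272, 288, 320, 384, 256, 512] y) y) := by
      rw [Mp, w2, ← X.pg.mul, ← m.e, cg, inv_eq_of_mul_eq_one_right c]; simp only [mul_assoc]
    have p1 := m.sq
    have p2 := m.ne .zero
    exact X.eb_f m.conj (by clear_aux_decl; clear * - l p q p1 p2; decide +kernel +revert)

theorem eb_p1 : PG.parOK (D10 false false false) 1024 fun x => x / 4 % 2 = x / 16 % 2 := dk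

theorem pp (X : St10 C.toCfg0 false false false) {P : Subgroup G} (S : SP X.gs P) {n : G} (a : n ∈ P) (b : n ∉ 𝔗) (c : n * n = 1) (d : n ∈ C.X)
    {i j : Bool} (h : List.Forall₂ (𝔫 n) [1, 2, 4, 8, 16, 32, 64, 128, 256, 512]
      [1, 3, 36 + cond i 256 0 + cond j 512 0, cond i 40 552, 272, 288, 320, 384, 256, 512]) : 𝔯 304 ∉ C.X := fun hx => by
  haveI : Fact (Nat.Prime 2) := ⟨Nat.prime_two⟩
  haveI := C.nX
  have nk : 𝔫 n 256 256 := (Mp.hom h 256).cast _ _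
  have nu : 𝔫 n 304 304 := (Mp.hom h 304).cast _ _
  have L := fun x => Nat.mod_lt x (by decide : 0 < 1024)
  have H : ∀ x < 1024, ∃ u < 1024, 𝔫 n x u ∧ (u / 4 % 2 = u / 16 % 2 ↔ x / 4 % 2 = x / 16 % 2) := fun x l =>
    ⟨_, L _, (Mp.hom h x).cast x _ ⟨(by clear_aux_decl; clear * - l; decide +kernel +revert), (Nat.mod_mod _ _).symm⟩,
      by clear_aux_decl; clear * - l; decide +kernel +revert⟩
  have U : ∀ {y : G} {x x' : ℕ}, x < 1024 → x' < 1024 → (y = 𝔯 x ∨ y = n * 𝔯 x) → (y = 𝔯 x' ∨ y = n * 𝔯 x') → x = x' := by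
    rintro y x x' l l' (rfl | rfl) (e | e)
    · exact ((X.pg.eq _ _).1 e).eq l l'
    · exact absurd ((mul_mem_cancel_right (el_mem _ x')).1 (e ▸ el_mem _ x)) b
    · exact absurd ((mul_mem_cancel_right (el_mem _ x)).1 (e ▸ el_mem _ x')) b
    · exact ((X.pg.eq _ _).1 (mul_left_cancel e)).eq l l'
  have Mu : ∀ {y y' : G} {x x' : ℕ}, x < 1024 → x' < 1024 → (y = 𝔯 x ∨ y = n * 𝔯 x) → (y' = 𝔯 x' ∨ y' = n * 𝔯 x') →
      ∃ u < 1024, (y * y' = 𝔯 u ∨ y * y' = n * 𝔯 u) ∧ (u / 4 % 2 = u / 16 % 2 ↔ (x / 4 % 2 = x / 16 % 2 ↔ x' / 4 % 2 = x' / 16 % 2)) := by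
    rintro y y' x x' l l' e (rfl | rfl)
    · have f : 𝔯 x * 𝔯 x' = 𝔯 (mul (D10 false false false) x x' % 1024) := by rw [el_modN X.pg, X.pg.mul]
      refine ⟨_, L _, ?_, X.pg.par eb_p1 l l' (L _) f⟩
      rcases e with rfl | rfl
      exacts [.inl f, .inr (by rw [mul_assoc, f])]
    · obtain ⟨v, lv, m, p⟩ := H x l
      have f : 𝔯 v * 𝔯 x' = 𝔯 (mul (D10 false false false) v x' % 1024) := by rw [el_modN X.pg, X.pg.mul]
      refine ⟨_, L _, ?_, (X.pg.par eb_p1 lv l' (L _) f).trans (by rw [p])⟩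
      rw [← f, ← m.e, cg, inv_eq_of_mul_eq_one_right c]
      rcases e with rfl | rfl
      exacts [.inr (by simp only [← mul_assoc, c, one_mul]), .inl (by simp only [mul_assoc])]
  have K : ∀ {x}, x / 2 % 2 = 0 → x < 1024 → 𝔯 x ∈ P ⊓ centralizer {𝔯 256} := fun p l =>
    ⟨S.le (el_mem _ _), mem_cent.2 ((X.eb_nt nk l (.inl rfl)).2 p)⟩
  have PX : P ⊓ centralizer {𝔯 256} ≤ C.X := fun y hy => by
    obtain ⟨x, l, e⟩ := X.eb_ex S a b c hy.1
    have p := (X.eb_nt nk l e).1 (mem_cent.1 hy.2)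
    have : 𝔯 x ∈ C.X := by
      by_cases q : x / 4 % 2 = x / 16 % 2
      · exact X.mX ⟨p, q⟩
      · have := X.mX (x := mul (D10 false false false) x 304 % 1024) (by clear_aux_decl; clear * - l p q; decide +kernel +revert)
        rw [el_modN X.pg, ← X.pg.mul] at this
        exact (mul_mem_cancel_right hx).1 this
    rcases e with rfl | rfl
    exacts [this, mul_mem d this]
  have s : ¬ 2 ∣ (P ⊓ centralizer {𝔯 256}).relIndex C.X := by
    have e : P ⊓ centralizer {𝔯 256} = P ⊓ C.X := le_antisymm (le_inf inf_le_left PX) fun y hy => ⟨hy.1, mem_cent.2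
      ((X.zz (X.top.2 (S.nm hy.1))).2.2.2.resolve_right fun k => X.tX ((mul_mem_cancel_left (mem_inf.1 hy).2).1
        (PX (mem_inf.2 ⟨mul_mem (mem_inf.1 hy).1 (S.le (el_mem _ 2)), mem_cent.2 ((k.tr 2).r 256)⟩))))⟩
    rw [e, inf_relIndex_right]
    exact not_dvd_relIndex_of_le_normalizer S.syl le_top le_normalizer_of_normal
  let M : Subgroup G :=
    { carrier := {y | y ∈ P ⊓ centralizer {𝔯 256} ∧ ∀ x < 1024, (y = 𝔯 x ∨ y = n * 𝔯 x) → x / 4 % 2 = x / 16 % 2}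
      one_mem' := ⟨one_mem _, fun x l e => by rw [U l (by decide) e (.inl (el_zero _).symm)]⟩
      mul_mem' := fun {y y'} p q => ⟨mul_mem p.1 q.1, fun u l e => by
        obtain ⟨x, lx, ex⟩ := X.eb_ex S a b c p.1.1
        obtain ⟨x', lx', ex'⟩ := X.eb_ex S a b c q.1.1
        obtain ⟨v, lv, ev, k⟩ := Mu lx lx' ex ex'
        rw [U l lv e ev]
        exact k.2 (iff_of_true (p.2 _ lx ex) (q.2 _ lx' ex'))⟩
      inv_mem' := fun {y} p => ⟨inv_mem p.1, fun u l e => by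
        obtain ⟨x, lx, ex⟩ := X.eb_ex S a b c p.1.1
        obtain ⟨v, lv, ev, k⟩ := Mu lx l ex e
        rw [mul_inv_cancel] at ev
        rw [U lv (by decide) ev (.inl (el_zero _).symm)] at k
        exact (k.1 rfl).1 (p.2 _ lx ex)⟩ }
  have I : ∀ x ∈ P ⊓ centralizer {𝔯 256}, ∀ y ∈ P ⊓ centralizer {𝔯 256}, x ∉ M → y ∉ M → x * y ∈ M := fun y p y' q u v =>
    ⟨mul_mem p q, fun w l e => by
      obtain ⟨x, lx, ex⟩ := X.eb_ex S a b c p.1
      obtain ⟨x', lx', ex'⟩ := X.eb_ex S a b c q.1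
      obtain ⟨v', lv, ev, k⟩ := Mu lx lx' ex ex'
      rw [U l lv e ev]
      exact k.2 (iff_of_false (fun f => u ⟨p, fun _ l e => U lx l ex e ▸ f⟩) fun f => v ⟨q, fun _ l e => U lx' l ex' e ▸ f⟩)⟩
  have hP := S.pP.to_le (inf_le_left : P ⊓ centralizer {𝔯 256} ≤ P)
  obtain ⟨g, -, wM, hQ⟩ := C.thE (M := M) PX hP s (fun y hy => hy.1) I hx (by rw [X.pg.mul, X.pg.one]; exact dk)
    (hP.to_le (inf_le_left : P ⊓ centralizer {𝔯 256} ⊓ centralizer {𝔯 304} ≤ _)) (inf_le_left.trans PX) fun x hx => mem_cent.1 hx.2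
  have c1 := card_cover (T := P ⊓ centralizer {𝔯 256}) (R := P ⊓ centralizer {𝔯 256} ⊓ centralizer {𝔯 304}) [𝔯 0, 𝔯 4] fun y hy => by
    obtain ⟨x, l, e⟩ := X.eb_ex S a b c hy.1
    have p := (X.eb_nt nk l e).1 (mem_cent.1 hy.2)
    obtain ⟨v, q, r⟩ : ∃ v ∈ [0, 4], EQ 1024 (cj (D10 false false false) (cj (D10 false false false) 304 x) v) 304 :=
      (by clear_aux_decl; clear * - l p; decide +kernel +revert)
    refine ⟨𝔯 v, List.mem_map_of_mem (f := 𝔯) q, mul_mem hy (K (by clear_aux_decl; clear * - q; decide +kernel +revert)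
      (by clear_aux_decl; clear * - q; decide +kernel +revert)), mem_cent.2 ?_⟩
    rcases e with rfl | rfl
    exacts [((Mp.self X.pg x 304).tr v).r _ r, ((nu.tr x).tr v).r _ r]
  have le : (P ⊓ centralizer {𝔯 256} ⊓ centralizer {𝔯 304}).map (cgH g) ≤ P ⊓ centralizer {𝔯 256} := by
    rintro _ ⟨y, p, rfl⟩; exact cgH_apply g y ▸ hQ y p
  have J := fun x p y q u v => (half (x := x) (y := y) le (by rw [card_cg]; exact c1) p q).2 (iff_of_false u v)
  have hc : ∀ y ∈ (P ⊓ centralizer {𝔯 256} ⊓ centralizer {𝔯 304}).map (cgH g), cg y (cg (𝔯 304) g) = y := by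
    rintro _ ⟨y, p, rfl⟩
    rw [cgH_apply, ← cg_cg', cg_comm (mem_cent.1 p.2)]
  have hs : ∀ y ∈ (P ⊓ centralizer {𝔯 256} ⊓ centralizer {𝔯 304}).map (cgH g), cg (𝔯 304) g ≠ y * y := by
    rintro _ ⟨y, p, rfl⟩ e
    rw [cgH_apply, ← cg_mul, cg_inj] at e
    have : y * y ∈ M := by
      by_cases f : y ∈ M
      exacts [mul_mem f f, I y p.1 y p.1 f f]
    exact absurd (this.2 304 (by decide) (.inl e.symm)) (by decide)
  generalize (P ⊓ centralizer {𝔯 256} ⊓ centralizer {𝔯 304}).map (cgH g) = Q at J hc hs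
  have Sq : ∀ x u, x / 2 % 2 = 0 ∧ x < 1024 ∧ EQ 1024 (mul (D10 false false false) x x) u → 𝔯 u ∈ Q := fun x u p => by
    rw [← (X.pg.eq _ _).2 p.2.2, ← X.pg.mul]
    by_cases f : 𝔯 x ∈ Q
    exacts [mul_mem f f, J _ (K p.1 p.2.1) _ (K p.1 p.2.1) f f]
  have q1 := Sq 5 32 dk
  have q2 := Sq 73 64 dk
  have q3 := Sq 13 864 dk
  have m1 : 𝔫 _ 32 32 := hc _ q1
  have m2 : 𝔫 _ 64 64 := hc _ q2
  have m3 : 𝔫 _ 864 864 := hc _ q3
  have w2 : cg (𝔯 304) g * cg (𝔯 304) g = 1 := by rw [← cg_mul, X.pg.mul, (X.pg.one _).2 dk, cg_one]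
  have w1 : cg (𝔯 304) g ≠ 1 := fun e => absurd ((X.pg.one _).1 (cg_eq_one.1 e)) (by decide)
  obtain ⟨y, l, e⟩ := X.eb_ex S a b c wM.1.1
  have p := (X.eb_nt nk l e).1 (mem_cent.1 wM.1.2)
  have q := wM.2 y l e
  rcases e with e | e <;> rw [e] at m1 m2 m3 w2 w1 hc hs
  · have p1 := m1.of_el
    have p2 := m2.of_el
    have p3 := m3.of_el
    have w2 : EQ 1024 (mul (D10 false false false) y y) 0 := by rw [← X.pg.eq, ← X.pg.mul, w2, el_zero]
    have w1 : ¬ EQ 1024 y 0 := by rwa [← X.pg.eq, el_zero]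
    obtain r | r | r | r : EQ 1024 y (mul (D10 false false false) 32 32) ∨ EQ 1024 y (mul (D10 false false false) 64 64) ∨
      EQ 1024 y (mul (D10 false false false) 864 864) ∨ (¬ EQ 1024 (cj (D10 false false false) 4 y) 4 ∧
        ¬ EQ 1024 (cj (D10 false false false) 652 y) 652 ∧ ¬ EQ 1024 (cj (D10 false false false) 648 y) 648) :=
      (by clear_aux_decl; clear * - l p q p1 p2 p3 w1 w2; decide +kernel +revert)
    · exact hs _ q1 (by rw [X.pg.mul, X.pg.eq]; exact r)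
    · exact hs _ q2 (by rw [X.pg.mul, X.pg.eq]; exact r)
    · exact hs _ q3 (by rw [X.pg.mul, X.pg.eq]; exact r)
    · have := J _ (K (x := 4) rfl (by decide)) _ (K (x := 652) rfl (by decide)) (fun f => r.1 (Mp.of_el (h := X.pg) (hc _ f)))
        fun f => r.2.1 (Mp.of_el (h := X.pg) (hc _ f))
      rw [X.pg.mul, (X.pg.eq _ 648).2 dk] at this
      exact r.2.2 (Mp.of_el (h := X.pg) (hc _ this))
  · have p1 := ((((Mp.hom h 32).cast 32 288).tr y).eq m1 rfl)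
    have p2 := ((((Mp.hom h 64).cast 64 320).tr y).eq m2 rfl)
    have m := (Mp.hom h y).l y (by clear_aux_decl; clear * - l; decide +kernel +revert)
    have p3 : EQ 1024 (mul (D10 false false false) (hm (mul (D10 false false false))
        [1, 3, 36 + cond i 256 0 + cond j 512 0, cond i 40 552, 272, 288, 320, 384, 256, 512] y) y) 0 := by
      rw [← X.pg.eq, ← X.pg.mul, ← m.e, el_zero, ← w2, cg, inv_eq_of_mul_eq_one_right c]; simp only [mul_assoc]
    exact absurd p3 (by clear_aux_decl; clear * - l p p1 p2; decide +kernel +revert)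

end St10

end Cfsg.Lib.H33

namespace Cfsg.Lib.L33

open H33

theorem ga0 {G : Type*} [Group G] [Finite G] {β ε : Bool} (C : Cx G true) (X : St10 C.toCfg0 β false ε) : False := by
  obtain ⟨P, S⟩ := X.exSP
  obtain ⟨rfl, rfl, n, a, b, c, d, i, j, h⟩ := X.nn S
  obtain p | p | ⟨p, -⟩ := C.dec (el X.gs 304)
  · exact X.pp S a b c d h p
  · rw [← X.t, X.pg.mul] at p
    have := C.cgX p (el X.gs 2)
    rw [X.pg.cg, (X.pg.eq _ 306).2 (by decide +kernel)] at this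
    exact X.pt S a b c d h this
  · exact nomatch p

end Cfsg.Lib.L33
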