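import Cfsg.Agent.Lib.L33.Bas
import Cfsg.Agent.Lib.H33.E8c

/-! S3140 (helper5): the data of the case `PSp₆(3)`. `T = gen gs` is a Sylow 2-subgroup of `G`, `T = Q⟨r, t⟩`, `Q = Q₁Q₂Q₃`,
`Q_i = ⟨a_i, b_i⟩ ≅ Q₈` with centres `z, k, kz`, `V = ⟨k, z⟩`; `r` centralises `Q₁` and swaps `a₂ ↔ a₃`, `b₂ ↔ b₃`; `u = t r` swaps `a_i ↔ b_i`.
Codes: `t = 1, r = 2, a₁ = 4, b₁ = 8, a₂ = 16, b₂ = 32, a₃ = 64, b₃ = 128, k = 256, z = 512`. Masks (`MS gs m`): `S₀ = T ⊓ X = 1022`, `Q = 1020`,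
`Q₁ = 524`, `W = Q₂Q₃⟨r⟩ = 1010`, `V = 768`, `Q₁V = 780`, `Q₂V = 816`, `Q₃V = 960`. `Mp pg pg w x y` means `w⁻¹ (el gs x) w = el gs y`; see
Lib/H33/{Pc, Fw, Sy}: finite statements on codes are proved by `decide +kernel (+revert)`. -/

set_option autoImplicit false

namespace Cfsg.Lib.L33

open Subgroup Matrix H33
open scoped MatrixGroups

def DT : Dat := [(0, [1, 4, 2, 64, 32, 16, 8, 384, 256]), (0, [1, 2, 16, 32, 4, 8, 192, 128]), (64, [65, 2, 4, 8, 16, 32, 64]),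
  (32, [1, 2, 4, 8, 16, 32]), (8, [9, 2, 4, 8, 16]), (4, [1, 2, 4, 8]), (6, [7, 2, 4]), (3, [1, 2]), (0, [1]), (0, [])]

/-- The Sylow subgroup. -/
structure P5 {G : Type*} [Group G] (C : Ctx G) where
  gs : List G
  pg : PG gs DT 1024
  syl : ¬ 2 * 1024 ∣ Nat.card G
  t : el gs 1 = C.t
  r : el gs 2 = C.α z3
  z : el gs 512 = C.α z1
  mX : ∀ x, el gs x ∈ C.X ↔ x % 2 = 0
  sig : ∃ σ ∈ C.X, Mp pg pg σ 1 1 ∧ Mp pg pg σ 4 4 ∧ Mp pg pg σ 8 8 ∧ Mp pg pg σ 16 32 ∧ Mp pg pg σ 32 48 ∧ Mp pg pg σ 64 960 ∧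
    Mp pg pg σ 128 64

/-- The Sylow subgroup with fusion. -/
structure P6 {G : Type*} [Group G] (C : Ctx G) extends P5 C where
  rho : ∃ ρ ∈ C.X ⊓ normalizer (MS gs 1020 : Set G), Mp pg pg ρ 512 256 ∧ Mp pg pg ρ 256 768
  del : ∃ δ ∈ C.X, Mp pg pg δ 256 256 ∧ Mp pg pg δ 512 512 ∧ ∃ i, (i = 4 ∨ i = 8) ∧
    ∀ p ∈ [(i, 12 - i), (12 - i, 12), (16, 16), (32, 32), (64, 128), (128, 192)], ∃ y < 1024, y % 256 = p.2 ∧ Mp pg pg δ p.1 y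
  rk : ∃ h ∈ C.X, Mp pg pg h 512 512 ∧ Mp pg pg h 2 256 ∧ ∀ x, IM 514 (cj DT 2 x % 1024) → cg (el gs x) h ∈ gen gs
  zf : ∀ x < 1024, IsConj (el gs 512) (el gs x) → IM 768 x ∨ ∃ v < 1024, v % 2 = 0 ∧ EQ 1024 (cj DT 2 v) x
  sc : ∀ g x y, Mp pg pg g 512 512 → IM 524 x → Mp pg pg g x y → IM 524 (y % 1024)

/-- `O(C(z))⟨z⟩`. -/
def Ctx.OZ {G : Type*} [Group G] (C : Ctx G) : Subgroup G := centralizerPPrimeCore 2 (C.α z1) ⊔ zpowers (C.α z1)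

/-- `C_X(z)`. -/
def Ctx.CZ {G : Type*} [Group G] (C : Ctx G) : Subgroup G := C.X ⊓ centralizer {C.α z1}

/-- `C_X(z) / O⟨z⟩ = A₄ × PSp₄(3)`. -/
structure P7 {G : Type*} [Group G] (C : Ctx G) extends P6 C where
  K : Subgroup G
  J : Subgroup G
  π : K →* PSp 2 F3
  sur : Function.Surjective π
  ker : π.ker = C.OZ.subgroupOf K
  Kn : C.CZ ≤ normalizer (K : Set G)
  Jn : C.CZ ≤ normalizer (J : Set G)
  sup : J ⊔ K = C.CZ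
  inf : J ⊓ K = C.OZ
  JK : ⁅J, K⁆ ≤ C.OZ
  W : MS gs 1010 ≤ K
  Q : MS gs 524 ≤ J
  idx : C.OZ.relIndex J = 12
  zJ : ∀ x ∈ J, (∀ y ∈ MS gs 524, cm x y ∈ C.OZ) → x ∈ C.OZ ⊔ MS gs 524
  Qn : J ≤ normalizer ((C.OZ ⊔ MS gs 524 : Subgroup G) : Set G)

end Cfsg.Lib.L33
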